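import Cfsg.Agent.Lib.FusionP3.TG.Thompson
import Cfsg.Agent.Lib.FusionP3.GT.Reduce
import Cfsg.Agent.Lib.FusionP3.SmallExponent

/-!
A saturated fusion system is generated by the centralizer system of the powers of the centre and the normalizer
system of the Thompson subgroup.
-/

set_option autoImplicit false
set_option linter.style.haveILetI false
set_option linter.unusedSectionVars false

namespace Cfsg.Agent.Lib.FusionP3.TG

open Cfsg Cfsg.FusionSystem Cfsg.Agent.Lib.FS Cfsg.Agent.Lib.FusionP3.GT Cfsg.Agent.Lib.FusionP3.Induction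

variable {Ω : Type*} [Group Ω] {S : Subgroup Ω} {p : ℕ}

/-- `℧¹(Z(Q))` computed inside the ambient group. -/
def pzOf (p : ℕ) (Q : Subgroup Ω) : Subgroup Ω := powerClosure p 1 (Q ⊓ Subgroup.centralizer (Q : Set Ω))

theorem pzOf_le (p : ℕ) (Q : Subgroup Ω) : pzOf p Q ≤ Q ⊓ Subgroup.centralizer (Q : Set Ω) :=
  (Subgroup.closure_le _).2 fun _ ⟨_, hx, e⟩ => e ▸ pow_mem hx _

theorem powerClosure_mono {H K : Subgroup Ω} (h : H ≤ K) (n : ℕ) : powerClosure p n H ≤ powerClosure p n K :=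
  Subgroup.closure_mono fun _ ⟨x, hx, e⟩ => ⟨x, h hx, e⟩

variable [Finite S] [Fact p.Prime] {F E : FusionSystem S}

/-- An automorphism of `R` fixing `℧¹(Z(S))` comes from the centralizer system. -/
theorem mem_of_fix (hC : ∀ (P : Subgroup Ω) (φ : P →* Ω),
      φ ∈ F.centralizerHom (powerClosure p 1 (S ⊓ Subgroup.centralizer (S : Set Ω))) P → φ ∈ E.Hom P)
    {R : Subgroup Ω} (hRS : R ≤ S) {γ : MulAut R} (hγ : γ ∈ F.autGroup R)
    (hZ : powerClosure p 1 (S ⊓ Subgroup.centralizer (S : Set Ω)) ≤ R)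
    (hfix : ∀ x : R, (x : Ω) ∈ powerClosure p 1 (S ⊓ Subgroup.centralizer (S : Set Ω)) → γ x = x) :
    γ ∈ E.autGroup R := by
  set Z := powerClosure p 1 (S ⊓ Subgroup.centralizer (S : Set Ω))
  refine (mem_autGroup hRS).2 (hC R _ ?_)
  obtain ⟨φ, hφ, -, he⟩ := exists_hom_of_aut hRS hγ
  obtain ⟨ψ, hψ, e⟩ := exists_restrict hφ (sup_le le_rfl hZ : R ⊔ Z ≤ R)
  have hcent : S ≤ centralizerIn S Z := fun g hg => ⟨hg, Subgroup.mem_centralizer_iff.2 fun z hz => by
    have hz' : z ∈ Subgroup.centralizer (S : Set Ω) :=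
      ((Subgroup.closure_le _).2 (fun _ ⟨w, hw, e⟩ => e ▸ pow_mem hw.2 _) : Z ≤ Subgroup.centralizer (S : Set Ω)) hz
    exact (Subgroup.mem_centralizer_iff.1 hz' g hg).symm⟩
  refine ⟨hom_congr hφ fun x => (he x).symm, hRS.trans hcent, fun x => hcent (hRS (γ x).2), ψ, hψ,
    fun x => (e _).trans (he _), fun z => ?_⟩
  rw [e, he]
  exact congrArg Subtype.val (hfix _ z.2)

/-- The Frattini step: if an element outside `R` centralizes `℧¹(Z(Q))`, every automorphism of `R` is a product of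
one from the centralizer system and one extending to a larger subgroup. -/
theorem frattini_step (hC : ∀ (P : Subgroup Ω) (φ : P →* Ω),
      φ ∈ F.centralizerHom (powerClosure p 1 (S ⊓ Subgroup.centralizer (S : Set Ω))) P → φ ∈ E.Hom P)
    {T : Subgroup Ω} [Finite T] (hT : IsPGroup p T) (hTS : T ≤ S) {D : FusionSystem T} (hD : D.IsSaturated p)
    (hDF : D.IsSubsystemOf F) {R Q : Subgroup Ω} (hR : D.IsFullyNormalized R) (hQR : Q ≤ R)
    (hpres : ∀ α ∈ D.autGroup R, ∀ x : R, (x : Ω) ∈ Q → ((α x : R) : Ω) ∈ Q)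
    (hZ : S ⊓ Subgroup.centralizer (S : Set Ω) ≤ Q) {g : Ω} (hg : g ∈ normalizerIn T R) (hgR : g ∉ R)
    (hgfix : ∀ x ∈ pzOf p Q, g * x * g⁻¹ = x)
    (hbig : ∀ R' : Subgroup Ω, R < R' → R' ≤ T → ∀ φ ∈ D.Hom R', φ ∈ E.Hom R')
    {α : MulAut R} (hα : α ∈ D.autGroup R) : α ∈ E.autGroup R := by
  have hRT : R ≤ T := hR.1
  have hRS : R ≤ S := hRT.trans hTS
  haveI := finite_sub hRT
  haveI := finite_mulAut R
  set X := D.autGroup R
  have hXF : X ≤ F.autGroup R := autGroup_mono hDF hRT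
  set Y : Subgroup (MulAut R) :=
    { carrier := {γ | ∀ x : R, (x : Ω) ∈ pzOf p Q → γ x = x}
      one_mem' := fun _ _ => rfl
      mul_mem' := fun {a b} ha hb x hx => by rw [MulAut.mul_apply, hb x hx, ha x hx]
      inv_mem' := fun {a} ha x hx => by conv_lhs => rw [← ha x hx, MulAut.inv_apply_self] } with hY
  have hpresP : ∀ β ∈ X, ∀ x : R, (x : Ω) ∈ pzOf p Q → ((β x : R) : Ω) ∈ pzOf p Q := by
    intro β hβ
    have key : pzOf p Q ≤ ((pzOf p Q).comap (R.subtype.comp β.toMonoidHom)).map R.subtype := by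
      refine (Subgroup.closure_le _).2 ?_
      rintro _ ⟨x, hx, rfl⟩
      refine ⟨⟨x ^ p ^ 1, pow_mem (hQR hx.1) _⟩, Subgroup.subset_closure ⟨((β ⟨x, hQR hx.1⟩ : R) : Ω),
        ⟨hpres β hβ _ hx.1, Subgroup.mem_centralizer_iff.2 fun q hq => ?_⟩, ?_⟩, rfl⟩
      · have hq' : ((β⁻¹ ⟨q, hQR hq⟩ : R) : Ω) ∈ Q := hpres _ (X.inv_mem hβ) _ hq
        have h1 := congrArg β (show (β⁻¹ : MulAut R) ⟨q, hQR hq⟩ * ⟨x, hQR hx.1⟩ = ⟨x, hQR hx.1⟩ * β⁻¹ ⟨q, hQR hq⟩ from
          Subtype.ext (Subgroup.mem_centralizer_iff.1 hx.2 _ hq'))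
        rw [map_mul, map_mul, MulAut.apply_inv_self] at h1
        exact congrArg Subtype.val h1
      · show ((β (⟨x ^ p ^ 1, _⟩ : R) : R) : Ω) = _
        rw [show (⟨x ^ p ^ 1, pow_mem (hQR hx.1) _⟩ : R) = ⟨x, hQR hx.1⟩ ^ p ^ 1 from Subtype.ext rfl, map_pow,
          Subgroup.coe_pow]
    intro x hx
    obtain ⟨y, hy, hyx⟩ := key hx
    rwa [Subtype.ext hyx] at hy
  set K := (X ⊓ Y) ⊔ Inn R with hK
  have hInnX : Inn R ≤ X := inn_le_autGroup D hRT
  have hKX : K ≤ X := sup_le inf_le_left hInnX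
  have hKE : K ≤ E.autGroup R := by
    refine sup_le ?_ (inn_le_autGroup E hRS)
    intro γ hγ
    have hZp : powerClosure p 1 (S ⊓ Subgroup.centralizer (S : Set Ω)) ≤ pzOf p Q :=
      powerClosure_mono (le_inf hZ fun z hz => Subgroup.mem_centralizer_iff.2 fun q hq =>
        Subgroup.mem_centralizer_iff.1 hz.2 q (hRS (hQR hq))) 1
    exact mem_of_fix hC hRS (hXF hγ.1) (hZp.trans ((pzOf_le p Q).trans (inf_le_left.trans hQR)))
      fun x hx => hγ.2 x (hZp hx)
  haveI : (K.subgroupOf X).Normal := by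
    refine ⟨fun n hn x => Subgroup.mem_subgroupOf.2 ?_⟩
    have hle : K.map (MulAut.conj (x : MulAut R)).toMonoidHom ≤ K := by
      rw [hK, Subgroup.map_sup]
      refine sup_le_sup ?_ ?_
      · rintro _ ⟨γ, hγ, rfl⟩
        refine ⟨X.mul_mem (X.mul_mem x.2 hγ.1) (X.inv_mem x.2), fun y hy => ?_⟩
        show (x : MulAut R) (γ ((x : MulAut R)⁻¹ y)) = y
        rw [hγ.2 _ (hpresP _ (X.inv_mem x.2) y hy), MulAut.apply_inv_self]
      · rintro _ ⟨γ, hγ, rfl⟩
        exact (inferInstance : (Inn R).Normal).conj_mem γ hγ _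
    exact hle ⟨n, Subgroup.mem_subgroupOf.1 hn, rfl⟩
  obtain ⟨-, W, hW⟩ := fullyAutomized_of_fullyNormalized hT hD hR
  have hFr := StronglyClosed.normalizer_inf_sup_eq_top W (K.subgroupOf X)
  obtain ⟨ν, hν, κ, hκ, hνκ⟩ := Subgroup.mem_sup_of_normal_right.1 (hFr.ge (Subgroup.mem_top (⟨α, hα⟩ : X)))
  set V := (((W : Subgroup X) ⊓ K.subgroupOf X)).map X.subtype with hV
  have hVT : V ≤ autInducedBy T R := by
    rintro _ ⟨w, hw, rfl⟩
    exact Subgroup.mem_subgroupOf.1 (hW ▸ hw.1)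
  obtain ⟨ψ, hψ, e⟩ := exists_extend_preimage (receptive_of_fullyNormalized hT hD hR) hVT (α := ν.1) ν.2
    (by
      rintro _ ⟨w, hw, rfl⟩
      exact ⟨ν * w * ν⁻¹, (Subgroup.mem_normalizer_iff.1 hν _).1 hw, rfl⟩)
  have hInnV : Inn R ≤ V := fun w hw =>
    ⟨⟨w, hInnX hw⟩, ⟨(show (⟨w, hInnX hw⟩ : X) ∈ (W : Subgroup X) by rw [hW]; exact inn_le_autInducedBy hRT hw),
      (Subgroup.mem_sup_right hw : w ∈ K)⟩, rfl⟩
  have hle : R ≤ preimageAut T R V := le_preimageAut hRT hInnV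
  have hlt : R < preimageAut T R V := by
    refine lt_of_le_of_ne hle fun h => hgR (h ▸ ?_)
    set c := R.normalizerMonoidHom ⟨g, hg.2⟩
    have hcT : c ∈ autInducedBy T R := mem_autInducedBy.2 ⟨g, hg.1, fun _ => normalizerMonoidHom_coe R _ _⟩
    have hcX : c ∈ X := autInducedBy_le_autGroup D hRT hcT
    refine ⟨hg, c, ⟨⟨c, hcX⟩, ⟨?_, ?_⟩, rfl⟩, fun x => normalizerMonoidHom_coe R _ x⟩
    · show (⟨c, hcX⟩ : X) ∈ (W : Subgroup X)
      rw [hW]; exact hcT
    · refine (Subgroup.mem_sup_left ⟨hcX, fun x hx => Subtype.ext ?_⟩ : c ∈ K)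
      rw [normalizerMonoidHom_coe]
      exact hgfix _ hx
  have hψE := hbig _ hlt ((preimageAut_le R V).trans (normalizerIn_le R)) ψ hψ
  have hνE : ν.1 ∈ E.autGroup R := (mem_autGroup hRS).2
    (mem_of_restrict hψE hle fun x => (e x x.2 (hle x.2)).symm)
  have h := (E.autGroup R).mul_mem hνE (hKE hκ)
  rwa [show (ν : MulAut R) * (X.subtype κ) = α from congrArg Subtype.val hνκ] at h

/-- A normalizer system has its subgroup normal in it. -/
theorem isNormal_normalizer {T T₀ U : Subgroup Ω} {D : FusionSystem T₀} [Finite T] (hU : U ≤ T)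
    {N : FusionSystem T} (hN : ∀ P, N.Hom P = D.normalizerHom U P) (hT : T = normalizerIn T₀ U) : N.IsNormal U := by
  refine ⟨hU, fun P φ hφ => ?_⟩
  rw [hN] at hφ
  obtain ⟨-, hP, hφT, ψ, hψ, he, hm⟩ := hφ
  haveI := finite_sub hU
  obtain ⟨ψ', hψ', e⟩ := exists_restrict hψ (sup_le le_rfl le_sup_right : (P ⊔ U) ⊔ U ≤ P ⊔ U)
  refine ⟨ψ, ?_, he, hm⟩
  rw [hN]
  refine ⟨hψ, sup_le hP (hT ▸ hU), fun x => ?_, ψ', hψ',
    fun x => (e _), ?_⟩
  · have hle : P ⊔ U ≤ ((normalizerIn T₀ U).comap ψ).map (P ⊔ U).subtype :=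
      sup_le (fun y hy => ⟨Subgroup.inclusion le_sup_left ⟨y, hy⟩, by
          rw [SetLike.mem_coe, Subgroup.mem_comap, he]; exact hφT _, rfl⟩)
        (fun y hy => ⟨Subgroup.inclusion le_sup_right ⟨y, hy⟩,
          (hT ▸ hU : U ≤ normalizerIn T₀ U) (hm.le ⟨_, hy, rfl⟩), rfl⟩)
    obtain ⟨y, hy, hyx⟩ := hle x.2
    rwa [Subtype.ext hyx] at hy
  refine map_subgroupOf_eq_of_mapsTo hψ' le_sup_right fun x hx => ?_
  rw [e]
  exact hm.le ⟨_, Subgroup.mem_subgroupOf.2 hx, rfl⟩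

section Inner

variable {T U : Subgroup Ω}

/-- The statement for the subsystems over `T = N_S(U)` in which `U` is normal, given larger measures. -/
theorem inner_step (hS : IsPGroup p S) (hC : ∀ (P : Subgroup Ω) (φ : P →* Ω),
      φ ∈ F.centralizerHom (powerClosure p 1 (S ⊓ Subgroup.centralizer (S : Set Ω))) P → φ ∈ E.Hom P)
    (hN : ∀ (P : Subgroup Ω) (φ : P →* Ω), φ ∈ F.normalizerHom (thompJ S) P → φ ∈ E.Hom P)
    (hTe : T = normalizerIn S U) (hTS : T ≤ S) (hUJ : thompJ U = U) (hUc : centralizerIn S U ≤ U)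
    (hout : ∀ R : Subgroup Ω, jKey S U < jKey S R → ∀ φ ∈ F.Hom R, φ ∈ E.Hom R) :
    ∀ (n : ℕ) (D : FusionSystem T), (SmallExponent.graphs D).ncard ≤ n → D.IsSaturated p → D.IsSubsystemOf F →
      D.IsNormal U → ∀ (R : Subgroup Ω) (φ : R →* Ω), φ ∈ D.Hom R → jKey S U ≤ jKey S R → φ ∈ E.Hom R := by
  haveI := finite_sub hTS
  have hT : IsPGroup p T := isPGroup_of_le hS hTS
  intro n
  induction n using Nat.strong_induction_on with
  | _ n ih =>
  intro D hDn hD hDF hU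
  refine hom_induction hT hD (M := fun R φ => jKey S U ≤ jKey S R → φ ∈ E.Hom R) ?_ ?_ ?_
  · intro P P' φ ψ χ hφ hψ h he h1 h2 hk
    have hP'S : P' ≤ S := (src_le hψ).trans hTS
    have hk' : jKey S U ≤ jKey S P' := hk.trans ((jKey_range (hDF P hφ)).ge.trans
      (jKey_mono hP'S (by rintro _ ⟨x, rfl⟩; exact h x)))
    obtain ⟨χ', hχ', e⟩ := exists_comp (h1 hk) (h2 hk') h
    exact hom_congr hχ' fun x => (he x).trans (e x).symm
  · intro P P' φ ψ h hψ he h1 hk
    exact mem_of_restrict (h1 (hk.trans (jKey_mono ((src_le hψ).trans hTS) h))) h he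
  intro R hRfn hRc hRr α hα big hk
  have hRT : R ≤ T := hRfn.1
  have hRS : R ≤ S := hRT.trans hTS
  rcases hk.lt_or_eq with hlt | hkeq
  · exact hout R hlt _ (hDF R ((mem_autGroup hRT).1 hα))
  -- the largest subgroup normal in `D`
  set Q := D.core with hQ
  have hQn : D.IsNormal Q := FusionAlperin.Join.isNormal_core D
  have hUQ : U ≤ Q := le_sSup hU
  have hQR : Q ≤ R := isNormal_le_centricRadical hT hQn hRc hRr
  have hQS : Q ≤ S := hQn.1.trans hTS
  obtain ⟨hdR, hJR⟩ := eq_of_jKey_eq hRS (hUQ.trans hQR) hkeq.symm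
  by_cases hJT : thompJ T ≤ Q
  · -- then `U = J(T)` and `T = S`
    have h1 : thompJ T = U := by rw [← thompJ_eq_of_le hTS hRT (hJT.trans hQR), ← hJR, hUJ]
    rcases hTS.lt_or_eq with hlt | heq
    · obtain ⟨g, hg, hgT⟩ := SetLike.exists_of_lt (lt_normalizerIn hS hlt)
      refine absurd ?_ hgT
      have hgU : g ∈ Subgroup.normalizer (U : Set Ω) := by
        haveI := finite_sub (hU.1.trans hTS)
        refine mem_normalizer_of_conj_mem fun x hx => ?_
        rw [← h1] at hx ⊢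
        exact conj_mem_thompJ hTS hg.1 hg.2 hx
      rw [hTe]
      exact ⟨hg.1, hgU⟩
    · refine hN R _ ?_
      rw [show thompJ S = U by rw [← heq]; exact h1]
      obtain ⟨φ, hφ, -, he⟩ := exists_hom_of_aut hRT hα
      have hUR : U ≤ R := hUQ.trans hQR
      obtain ⟨ψ, hψ, e⟩ := exists_restrict (hDF R hφ) (sup_le le_rfl hUR : R ⊔ U ≤ R)
      have hS' : ∀ x : R, ((α x : R) : Ω) ∈ normalizerIn S U := fun x => hTe ▸ hRT (α x).2
      haveI := finite_sub (hU.1.trans hTS)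
      exact ⟨hDF R ((mem_autGroup hRT).1 hα), hTe ▸ hRT, hS', ψ, hψ, fun x => (e _).trans (he _),
        map_subgroupOf_eq_of_mapsTo hψ le_sup_right fun x hx => by
          rw [e]; exact isNormal_apply_mem hU hφ (x := ⟨x, _⟩) hx⟩
  have hZQ : S ⊓ Subgroup.centralizer (S : Set Ω) ≤ Q := fun z hz => hUQ (hUc ⟨hz.1,
    Subgroup.mem_centralizer_iff.2 fun u hu =>
      Subgroup.mem_centralizer_iff.1 hz.2 u ((hU.1.trans hTS) hu)⟩)
  obtain ⟨a, haT, haQ, hafix⟩ := exists_quadratic hT hQn.1 (isNormal_le_normalizer hQn) hJT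
  -- `C_T(℧¹(Z(Q)))`
  set L := T ⊓ Subgroup.centralizer (pzOf p Q : Set Ω) with hL
  have hLn : T ≤ Subgroup.normalizer (L : Set Ω) := by
    haveI := finite_sub (S := T) (inf_le_left : L ≤ T)
    intro g hg
    refine mem_normalizer_of_conj_mem fun x hx => ⟨mul_mem (mul_mem hg hx.1) (Subgroup.inv_mem _ hg), ?_⟩
    have hVn : ∀ v ∈ pzOf p Q, g⁻¹ * v * g ∈ pzOf p Q := by
      intro v hv
      have hle : (pzOf p Q).map (MulAut.conj g⁻¹).toMonoidHom ≤ pzOf p Q := by
        rw [pzOf, powerClosure, MonoidHom.map_closure]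
        refine Subgroup.closure_mono ?_
        rintro _ ⟨_, ⟨w, hw, rfl⟩, rfl⟩
        refine ⟨g⁻¹ * w * g, ⟨conj_inv_mem_of_normalizer (isNormal_le_normalizer hQn hg) hw.1,
          Subgroup.mem_centralizer_iff.2 fun q hq => ?_⟩, by simp [map_pow]⟩
        have h1 := Subgroup.mem_centralizer_iff.1 hw.2 _ (conj_mem_of_normalizer (isNormal_le_normalizer hQn hg) hq)
        calc q * (g⁻¹ * w * g) = g⁻¹ * (g * q * g⁻¹ * w) * g := by group
          _ = g⁻¹ * w * g * q := by rw [h1]; group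
      have := hle ⟨v, hv, rfl⟩
      simpa using this
    refine Subgroup.mem_centralizer_iff.2 fun v hv => ?_
    have h1 := Subgroup.mem_centralizer_iff.1 hx.2 _ (hVn v hv)
    calc v * (g * x * g⁻¹) = g * (g⁻¹ * v * g * x) * g⁻¹ := by group
      _ = g * x * g⁻¹ * v := by rw [h1]; group
  have hQL : Q ≤ L := fun q hq => ⟨hQn.1 hq, Subgroup.mem_centralizer_iff.2 fun v hv =>
    (Subgroup.mem_centralizer_iff.1 (pzOf_le p Q hv).2 q hq).symm⟩
  by_cases hLR : L ≤ R
  · -- recursion to the normalizer of `L`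
    have hLT : T = kNorm T L.subtype (⊤ : Subgroup (MulAut L)) :=
      ((kNorm_top T L).trans (normalizerIn_eq_self hLn)).symm
    have hLle : L ≤ T := inf_le_left
    obtain ⟨D', hD'⟩ := exists_kSystem D hLle ⊤ hLT
    have hfn : D.IsFullyNormalized L := isFullyNormalized_of_le_normalizer hLle hLn
    have hD'h : ∀ P, D'.Hom P = D.normalizerHom L P := fun P => (hD' P).trans (normalizerHom_eq D L P).symm
    have hD's : D'.IsSaturated p := kSystem_isSaturated hT hD (receptive_of_fullyNormalized hT hD hfn)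
      (by rw [inf_top_eq, inf_top_eq]; exact sylowIn_of_isFullyAutomized (fullyAutomized_of_fullyNormalized hT hD hfn))
      hLT hD'
    have hD'D : D'.IsSubsystemOf D := fun P φ h => by rw [hD'h] at h; exact h.1
    have hLn' : D'.IsNormal L := isNormal_normalizer hLle hD'h (normalizerIn_eq_self hLn).symm
    have hUsc : D'.StronglyClosed U :=
      ⟨hU.1, fun P hP φ hφ x => (isNormal_stronglyClosed hU).2 P hP φ (hD'D P hφ) x⟩
    have hU' : D'.IsNormal U := (isNormal_iff_centricRadical hT hD's).2 ⟨hUsc, fun P hc hr =>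
      (hUQ.trans hQL).trans (isNormal_le_centricRadical hT hLn' hc hr)⟩
    have hlt : (SmallExponent.graphs D').ncard < (SmallExponent.graphs D).ncard := by
      refine Set.ncard_lt_ncard ⟨SmallExponent.graphs_mono hD'D, fun hsub => haQ ?_⟩ (SmallExponent.finite_graphs D)
      have hLnD : D.IsNormal L := by
        refine ⟨hLle, fun P φ hφ => ?_⟩
        have h := SmallExponent.mem_of_graph (hsub ⟨P, φ, hφ, rfl⟩)
        rw [hD'h] at h
        exact h.2.2.2
      exact (le_sSup hLnD : L ≤ Q) ⟨haT, Subgroup.mem_centralizer_iff.2 fun v hv =>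
        ((mul_inv_eq_iff_eq_mul.1 (hafix v hv))).symm⟩
    refine ih _ (hlt.trans_le hDn) D' le_rfl hD's (fun P φ h => hDF P (hD'D P h)) hU' R _ ?_ hk
    rw [hD'h]
    obtain ⟨φ, hφ, -, he⟩ := exists_hom_of_aut hRT hα
    obtain ⟨ψ, hψ, e⟩ := exists_restrict hφ (sup_le le_rfl hLR : R ⊔ L ≤ R)
    haveI := finite_sub (S := T) hLle
    refine ⟨(mem_autGroup hRT).1 hα, le_inf hRT (hRT.trans hLn), fun x => ⟨hRT (α x).2, hLn (hRT (α x).2)⟩,
      ψ, hψ, fun x => (e _).trans (he _), map_subgroupOf_eq_of_mapsTo hψ le_sup_right fun x hx => ?_⟩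
    rw [e, he]
    -- `α` preserves `L`
    refine ⟨hRT (α _).2, Subgroup.mem_centralizer_iff.2 fun v hv => ?_⟩
    have hvR : v ∈ R := hQR (pzOf_le p Q hv).1
    have hpres : ((α⁻¹ ⟨v, hvR⟩ : R) : Ω) ∈ pzOf p Q := by
      have key : pzOf p Q ≤ ((pzOf p Q).comap (R.subtype.comp (α⁻¹).toMonoidHom)).map R.subtype := by
        refine (Subgroup.closure_le _).2 ?_
        rintro _ ⟨w, hw, rfl⟩
        have hQinv := fun (β : MulAut R) (hβ : β ∈ D.autGroup R) (y : R) (hy : (y : Ω) ∈ Q) =>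
          (autGroup_mem_iff_of_stronglyClosed (isNormal_stronglyClosed hQn) hRT hβ y).1 hy
        refine ⟨⟨w ^ p ^ 1, pow_mem (hQR hw.1) _⟩, Subgroup.subset_closure ⟨((α⁻¹ ⟨w, hQR hw.1⟩ : R) : Ω),
          ⟨hQinv _ (Subgroup.inv_mem _ hα) _ hw.1, Subgroup.mem_centralizer_iff.2 fun q hq => ?_⟩, ?_⟩, rfl⟩
        · have h1 := congrArg (⇑(α⁻¹ : MulAut R)) (show α ⟨q, hQR hq⟩ * ⟨w, hQR hw.1⟩ = ⟨w, hQR hw.1⟩ * α ⟨q, hQR hq⟩ from
            Subtype.ext (Subgroup.mem_centralizer_iff.1 hw.2 _ (hQinv α hα _ hq)))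
          rw [map_mul, map_mul, MulAut.inv_apply_self] at h1
          exact congrArg Subtype.val h1
        · show ((α⁻¹ (⟨w ^ p ^ 1, _⟩ : R) : R) : Ω) = _
          rw [show (⟨w ^ p ^ 1, pow_mem (hQR hw.1) _⟩ : R) = ⟨w, hQR hw.1⟩ ^ p ^ 1 from Subtype.ext rfl, map_pow,
            Subgroup.coe_pow]
      obtain ⟨y, hy, hyv⟩ := key hv
      rwa [Subtype.ext (show (y : Ω) = ((⟨v, hvR⟩ : R) : Ω) from hyv)] at hy
    have h1 := Subgroup.mem_centralizer_iff.1 (hx : (x : Ω) ∈ L).2 _ hpres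
    have h2 := congrArg α (show α⁻¹ ⟨v, hvR⟩ * ⟨x, sup_le le_rfl hLR x.2⟩ =
      ⟨x, sup_le le_rfl hLR x.2⟩ * α⁻¹ ⟨v, hvR⟩ from Subtype.ext h1)
    rw [map_mul, map_mul, MulAut.apply_inv_self] at h2
    exact congrArg Subtype.val h2
  · -- an element of `L` outside `R` normalizing `R`
    have hni : ¬ autInducedBy L R ≤ Inn R := fun h =>
      hLR (le_of_autInducedBy_le_inn hT hRT inf_le_left hLn (hRc.2 R (isConj_refl D hRT)) h)
    obtain ⟨w, hw, hwi⟩ := SetLike.not_le_iff_exists.1 hni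
    obtain ⟨g, hg, hge⟩ := mem_autInducedBy.1 hw
    have hgR : g ∉ R := fun h => hwi ⟨⟨g, h⟩, MulEquiv.ext fun x => Subtype.ext (hge x).symm⟩
    have := frattini_step hC hT hTS hD hDF hRfn hQR
      (fun β hβ x hx => (autGroup_mem_iff_of_stronglyClosed (isNormal_stronglyClosed hQn) hRT hβ x).1 hx) hZQ
      (g := g) ⟨hg.1, mem_normalizer_of_aut hge⟩ hgR
      (fun x hx => by rw [← Subgroup.mem_centralizer_iff.1 hg.2 x hx]; group)
      (fun R' hlt hR'T φ hφ => by
        haveI := finite_sub (hR'T.trans hTS)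
        exact big R' (Set.ncard_lt_ncard (SetLike.coe_ssubset_coe.2 hlt) (Set.toFinite _)) φ hφ
          (hk.trans (jKey_mono (hR'T.trans hTS) hlt.le)))
      hα
    exact (mem_autGroup hRS).1 this

end Inner

/-- Generation by the centralizer and normalizer maps. -/
theorem subsystem_of_generators (hS : IsPGroup p S) (hF : F.IsSaturated p)
    (hC : ∀ (P : Subgroup Ω) (φ : P →* Ω),
      φ ∈ F.centralizerHom (powerClosure p 1 (S ⊓ Subgroup.centralizer (S : Set Ω))) P → φ ∈ E.Hom P)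
    (hN : ∀ (P : Subgroup Ω) (φ : P →* Ω), φ ∈ F.normalizerHom (thompJ S) P → φ ∈ E.Hom P) :
    F.IsSubsystemOf E := by
  set B := Nat.card S * (Nat.card S + 1) + Nat.card S
  suffices h : ∀ (j : ℕ) (P : Subgroup Ω) (φ : P →* Ω), φ ∈ F.Hom P → B - jKey S P ≤ j → φ ∈ E.Hom P from
    fun P φ hφ => h _ P φ hφ le_rfl
  intro j
  induction j using Nat.strong_induction_on with
  | _ j ih =>
  refine hom_induction hS hF (M := fun P φ => B - jKey S P ≤ j → φ ∈ E.Hom P) ?_ ?_ ?_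
  · intro P P' φ ψ χ hφ hψ h he h1 h2 hk
    have hk' : jKey S P ≤ jKey S P' :=
      (jKey_range hφ).ge.trans (jKey_mono (src_le hψ) (by rintro _ ⟨x, rfl⟩; exact h x))
    obtain ⟨χ', hχ', e⟩ := exists_comp (h1 hk) (h2 (by omega)) h
    exact hom_congr hχ' fun x => (he x).trans (e x).symm
  · intro P P' φ ψ h hψ he h1 hk
    have := jKey_mono (src_le hψ) h
    exact mem_of_restrict (h1 (by omega)) h he
  intro P hPfn hPc _ α hα big hk
  have hPS := hPfn.1
  haveI := finite_sub hPS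
  have hout : ∀ R : Subgroup Ω, jKey S P < jKey S R → ∀ φ ∈ F.Hom R, φ ∈ E.Hom R := fun R hlt φ hφ => by
    have := jKey_le (src_le hφ)
    exact ih (B - jKey S R) (by omega) R φ hφ le_rfl
  have hbig : ∀ R : Subgroup Ω, P < R → R ≤ S → ∀ φ ∈ F.Hom R, φ ∈ E.Hom R := fun R hlt hR φ hφ => by
    haveI := finite_sub hR
    have := jKey_mono hR hlt.le
    exact big R (Set.ncard_lt_ncard (SetLike.coe_ssubset_coe.2 hlt) (Set.toFinite _)) φ hφ (by omega)
  set T := normalizerIn S P with hTdef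
  have hTS : T ≤ S := normalizerIn_le P
  haveI := finite_sub hTS
  have hPT : P ≤ T := le_normalizerIn hPS
  have hCP : centralizerIn S P ≤ P := hPc.2 P (isConj_refl F hPS)
  by_cases hJ : thompJ T ≤ P
  swap
  · obtain ⟨a, ha, haP, hafix⟩ :=
      exists_quadratic (isPGroup_of_le hS hTS) hPT (inf_le_right : T ≤ _) hJ
    exact (mem_autGroup hPS).1 (frattini_step hC hS le_rfl hF (fun _ _ h => h) hPfn le_rfl
      (fun β _ x _ => (β x).2) (fun z hz => hCP ⟨hz.1, Subgroup.mem_centralizer_iff.2 fun x hx =>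
        Subgroup.mem_centralizer_iff.1 hz.2 x (hPS hx)⟩) ha haP hafix hbig hα)
  -- now `J(P) = J(N_S(P))`
  set U := thompJ P with hUdef
  have hJeq : U = thompJ T := thompJ_eq_of_le hTS hPT hJ
  have hdeq := dAb_eq_of_le hTS hPT hJ
  have hUP : U ≤ P := thompJ_le P
  have hαU : ∀ x : P, (x : Ω) ∈ U → ((α x : P) : Ω) ∈ U := by
    intro x hx
    obtain ⟨φ, hφ, hr, he⟩ := exists_hom_of_aut hPS hα
    obtain ⟨h1, -⟩ := map_thompJ hφ
    rw [hr] at h1
    rw [← he]
    exact h1.le ⟨x, hx, rfl⟩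
  rcases hTS.lt_or_eq with hTlt | hTeq
  swap
  · -- `U = J(S)`
    have hU : U = thompJ S := by rw [hJeq, hTeq]
    refine hN P _ ?_
    rw [← hU]
    obtain ⟨φ, hφ, -, he⟩ := exists_hom_of_aut hPS hα
    obtain ⟨ψ, hψ, e⟩ := exists_restrict hφ (sup_le le_rfl hUP : P ⊔ U ≤ P)
    have hS' : S ≤ normalizerIn S U := fun g hg => ⟨hg, by
      haveI := finite_sub (hUP.trans hPS)
      refine mem_normalizer_of_conj_mem fun x hx => ?_
      rw [hU] at hx ⊢
      exact conj_mem_thompJ le_rfl hg (Subgroup.le_normalizer hg) hx⟩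
    haveI := finite_sub (hUP.trans hPS)
    exact ⟨(mem_autGroup hPS).1 hα, hPS.trans hS', fun x => hS' (hPS (α x).2), ψ, hψ,
      fun x => (e _).trans (he _), map_subgroupOf_eq_of_mapsTo hψ le_sup_right fun x hx => by
        rw [e, he]; exact hαU _ hx⟩
  -- move `U` to a fully normalized conjugate
  have hUS : U ≤ S := hUP.trans hPS
  have hTU : T ≤ normalizerIn S U := fun g hg => ⟨hg.1, by
    haveI := finite_sub hUS
    exact mem_normalizer_of_conj_mem fun x hx => conj_mem_thompJ hPS hg.1 hg.2 hx⟩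
  have hTUlt : T < normalizerIn S U := by
    refine (lt_normalizerIn hS hTlt).trans_le fun g hg => ⟨hg.1, ?_⟩
    haveI := finite_sub hUS
    refine mem_normalizer_of_conj_mem fun x hx => ?_
    rw [hJeq] at hx ⊢
    exact conj_mem_thompJ hTS hg.1 hg.2 hx
  have hPN : P ≤ normalizerIn S U := hPT.trans hTU
  have hPNlt : P < normalizerIn S U := lt_of_le_of_lt hPT hTUlt
  obtain ⟨U', hUU', hU'fn⟩ := exists_isFullyNormalized F hUS
  obtain ⟨ψ, hψ, hψm, hψU⟩ := exists_normalizer_map hS hF hU'fn hUU'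
  have hψE := hbig _ hPNlt (normalizerIn_le U) ψ hψ
  obtain ⟨ψP, hψP, eP⟩ := exists_restrict hψ hPN
  set P' := ψP.range with hP'
  obtain ⟨hJ', hd'⟩ := map_thompJ hψP
  have hU'J : thompJ P' = U' := by
    rw [← hJ', ← hψU, map_subgroupOf_eq_range hUP, map_subgroupOf_eq_range (hUP.trans hPN)]
    congr 1
    exact MonoidHom.ext fun x => eP _
  have hU'P' : U' ≤ P' := hU'J ▸ thompJ_le P'
  have hkey' : jKey S P' = jKey S P := jKey_range hψP
  have hdU' : dAb U' = dAb P' := dAb_eq_of_le (range_le_base hψP) hU'P' hU'J.le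
  have hU'U' : thompJ U' = U' := by
    rw [thompJ_eq_of_le (range_le_base hψP) hU'P' hU'J.le, hU'J]
  have hkU' : jKey S U' = jKey S P := by
    rw [← hkey']; unfold jKey; rw [hdU', hU'U', hU'J]
  -- `U'` contains its centralizer
  have hU'c : centralizerIn S U' ≤ U' := by
    have hP'S : P' ≤ S := range_le_base hψP
    -- the image of `T`
    obtain ⟨ψT, hψT, eT⟩ := exists_restrict hψ hTU
    have hψTm : ∀ x, ψT x ∈ normalizerIn S P' := by
      intro x
      refine ⟨apply_mem hψT x, ?_⟩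
      haveI := finite_sub hP'S
      refine mem_normalizer_of_conj_mem ?_
      rintro _ ⟨y, rfl⟩
      have hxy : (x : Ω) * y * (x : Ω)⁻¹ ∈ P := conj_mem_of_normalizer x.2.2 y.2
      refine ⟨⟨_, hxy⟩, ?_⟩
      rw [eP, eP, eT, ← map_inv, ← map_mul, ← map_mul]
      rfl
    haveI := finite_sub (normalizerIn_le (S := S) P')
    have hTr : ψT.range = normalizerIn S P' := range_eq_of_mem hψT hψTm (by
      exact hPfn.2 P' ⟨ψP, hψP, rfl⟩)
    have hCP' : centralizerIn S U' ≤ P' := by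
      by_contra hne
      set W := P' ⊔ centralizerIn S U'
      have hWS : W ≤ S := sup_le hP'S (centralizerIn_le U')
      haveI := finite_sub hWS
      have hnorm : ∀ u ∈ P', ∀ c ∈ centralizerIn S U', u * c * u⁻¹ ∈ centralizerIn S U' := by
        intro u hu c hc
        refine mem_centralizerIn'.2 ⟨mul_mem (mul_mem (hP'S hu) hc.1) (Subgroup.inv_mem _ (hP'S hu)), fun y hy => ?_⟩
        have hy' : u⁻¹ * y * u ∈ U' := by
          rw [← hU'J] at hy ⊢
          simpa using conj_mem_thompJ hP'S (Subgroup.inv_mem _ (hP'S hu))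
            (Subgroup.le_normalizer (Subgroup.inv_mem _ hu)) hy
        calc u * c * u⁻¹ * y * (u * c * u⁻¹)⁻¹ = u * (c * (u⁻¹ * y * u) * c⁻¹) * u⁻¹ := by group
          _ = y := by rw [(mem_centralizerIn'.1 hc).2 _ hy']; group
      obtain ⟨g, hg, hgP⟩ := SetLike.exists_of_lt
        (lt_normalizerIn (isPGroup_of_le hS hWS) (left_lt_sup.2 hne : P' < W))
      obtain ⟨u, hu, c, hc, rfl⟩ := StronglyClosed.exists_mul_of_mem_sup hnorm hg.1
      have hcN : c ∈ normalizerIn S P' := ⟨hc.1, by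
        simpa using mul_mem (Subgroup.inv_mem _ (Subgroup.le_normalizer hu)) hg.2⟩
      obtain ⟨t, ht⟩ := hTr.ge hcN
      -- `t` centralizes `U = J(T)`
      have htc : ∀ y ∈ U, (t : Ω) * y * (t : Ω)⁻¹ = y := by
        intro y hy
        have hyT : y ∈ T := hPT (hUP hy)
        have hψy : ψT ⟨y, hyT⟩ ∈ U' := by
          rw [eT]; exact hψU.le ⟨_, Subgroup.mem_subgroupOf.2 hy, rfl⟩
        have h1 := (mem_centralizerIn'.1 hc).2 _ hψy
        rw [← ht, ← map_inv, ← map_mul, ← map_mul] at h1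
        exact congrArg Subtype.val (F.injective_of_mem hψT h1)
      refine hgP (mul_mem hu ?_)
      obtain ⟨A, hA⟩ := maxAbelIn_nonempty hTS
      have hAU : A ≤ U := hJeq ▸ le_thompJ hA
      have hle : A ⊔ Subgroup.zpowers (t : Ω) ≤ T := sup_le hA.1 (Subgroup.zpowers_le.2 t.2)
      haveI := finite_sub (hle.trans hTS)
      have hmax := hA.2.2 _ hle (closure_singleton_sup_comm hA.2.1 fun b hb =>
        (mul_inv_eq_iff_eq_mul.1 (htc b (hAU hb))).symm)
      have htA : (t : Ω) ∈ A := by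
        rw [Subgroup.eq_of_le_of_card_ge le_sup_left hmax]
        exact Subgroup.mem_sup_right (Subgroup.mem_zpowers _)
      rw [← ht, eT]
      exact ⟨⟨t, hUP (hAU htA)⟩, eP _⟩
    intro c hc
    obtain ⟨⟨x, hxP⟩, hx⟩ := hCP' hc
    obtain ⟨A, hA⟩ := maxAbelIn_nonempty hPS
    have hAU : A ≤ U := le_thompJ hA
    have hle : A ⊔ Subgroup.zpowers x ≤ P := sup_le hA.1 (Subgroup.zpowers_le.2 hxP)
    haveI := finite_sub (hle.trans hPS)
    have hmax := hA.2.2 _ hle (closure_singleton_sup_comm hA.2.1 fun b hb => by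
      have hb' : ψP ⟨b, hA.1 hb⟩ ∈ U' := by
        rw [eP]; exact hψU.le ⟨_, Subgroup.mem_subgroupOf.2 (hAU hb), rfl⟩
      have h1 := (mem_centralizerIn'.1 hc).2 _ hb'
      rw [← hx, ← map_inv, ← map_mul, ← map_mul] at h1
      exact (mul_inv_eq_iff_eq_mul.1 (congrArg Subtype.val (F.injective_of_mem hψP h1))).symm)
    have hxA : x ∈ A := by
      rw [Subgroup.eq_of_le_of_card_ge le_sup_left hmax]
      exact Subgroup.mem_sup_right (Subgroup.mem_zpowers _)
    rw [← hx, eP]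
    exact hψU.le ⟨_, Subgroup.mem_subgroupOf.2 (hAU hxA), rfl⟩
  set T' := normalizerIn S U' with hT'
  -- the transported automorphism
  set α' := MulAut.congr (homEquiv hψP (rfl : ψP.range = P')) α with hα'
  have hα'F : α' ∈ F.autGroup P' := congr_mem_autGroup hψP rfl hα
  have hP'T' : P' ≤ T' := by rintro _ ⟨x, rfl⟩; rw [eP]; exact hψm _
  have hψPE : ψP ∈ E.Hom P := mem_of_restrict hψE hPN eP
  suffices hα'E : α' ∈ E.autGroup P' by
    obtain ⟨θ, hθ, hθr, hl, hr⟩ := exists_inv hψPE (rfl : ψP.range = P')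
    have h2 := congr_mem_autGroup hθ hθr hα'E
    refine (mem_autGroup hPS).1 ?_
    convert h2 using 1
    refine MulEquiv.ext fun x => Subtype.ext ?_
    obtain ⟨y, hy⟩ := (homEquiv hθ hθr).surjective x
    rw [← hy, congr_apply hθ hθr, hα']
    obtain ⟨z, rfl⟩ := (homEquiv hψP (rfl : ψP.range = P')).surjective y
    have e1 : (homEquiv hθ hθr ((homEquiv hψP (rfl : ψP.range = P')) z)) = z :=
      Subtype.ext (hl z ⟨z, rfl⟩)
    rw [e1]
    have e2 : MulAut.congr (homEquiv hψP (rfl : ψP.range = P')) α ((homEquiv hψP (rfl : ψP.range = P')) z) =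
        homEquiv hψP (rfl : ψP.range = P') (α z) := Subtype.ext (congr_apply hψP rfl α z)
    rw [e2]
    exact (hl (α z) ⟨α z, rfl⟩).symm
  obtain ⟨N, hNs⟩ := exists_normalizerSystem F hU'fn.1
  haveI := finite_sub (normalizerIn_le (S := S) U')
  haveI := finite_sub hU'fn.1
  have hα'U : ∀ x : P', (x : Ω) ∈ U' → ((α' x : P') : Ω) ∈ U' := by
    intro x hx
    obtain ⟨φ, hφ, hr, he⟩ := exists_hom_of_aut (range_le_base hψP) hα'F
    obtain ⟨h1, -⟩ := map_thompJ hφ
    rw [hr, hU'J] at h1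
    rw [← he]
    exact h1.le ⟨x, hx, rfl⟩
  haveI := finite_sub (range_le_base hψP)
  have hmem := mem_autGroup_normalizerSystem hNs hU'P' hP'T' hα'F hα'U
  refine (mem_autGroup (range_le_base hψP)).2 ?_
  exact inner_step hS hC hN hT' (normalizerIn_le U') hU'U' hU'c (fun R hlt => hout R (hkU' ▸ hlt)) _ N le_rfl
    (normalizerSystem_isSaturated hS hF hU'fn hNs) (fun Q φ h => by rw [hNs Q] at h; exact h.1)
    (isNormal_normalizer (le_normalizerIn hU'fn.1) hNs hT')
    P' _ ((mem_autGroup hP'T').1 hmem) (hkU'.trans hkey'.symm).le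

end Cfsg.Agent.Lib.FusionP3.TG
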