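import Cfsg.Agent.Lib.FusionP3.GT.Family

/-!
The Thompson subgroup as a join inside the ambient group; quadratic action of abelian subgroups of largest order.
-/

set_option autoImplicit false
set_option linter.style.haveILetI false
set_option linter.unusedSectionVars false

namespace Cfsg.Agent.Lib.FusionP3.TG

open Cfsg Cfsg.FusionSystem Cfsg.Agent.Lib.FS Cfsg.Agent.Lib.FusionP3.GT
open scoped commutatorElement

variable {Ω : Type*} [Group Ω] {S : Subgroup Ω}

/-- The subgroup generated by the abelian subgroups of `D` of largest order. -/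
def thompJ (D : Subgroup Ω) : Subgroup Ω := ⨆ A ∈ maxAbelIn D, A

/-- The largest order of an abelian subgroup of `D`. -/
noncomputable def dAb (D : Subgroup Ω) : ℕ :=
  sSup {n | ∃ A : Subgroup Ω, A ≤ D ∧ (∀ x ∈ A, ∀ y ∈ A, x * y = y * x) ∧ Nat.card A = n}

/-- A measure monotone on the subgroups of `S`: the largest abelian order, then the order of `thompJ`. -/
noncomputable def jKey (S D : Subgroup Ω) : ℕ := dAb D * (Nat.card S + 1) + Nat.card (thompJ D)

theorem dAb_eq {D A : Subgroup Ω} (hA : A ∈ maxAbelIn D) : dAb D = Nat.card A :=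
  IsGreatest.csSup_eq ⟨⟨A, hA.1, hA.2.1, rfl⟩, fun _ ⟨B, hB, hBc, e⟩ => e ▸ hA.2.2 B hB hBc⟩

theorem thompJ_le (D : Subgroup Ω) : thompJ D ≤ D := iSup₂_le fun _ hA => hA.1

theorem le_thompJ {D A : Subgroup Ω} (hA : A ∈ maxAbelIn D) : A ≤ thompJ D := le_iSup₂_of_le A hA le_rfl

section Finite

variable [Finite S] {D R : Subgroup Ω}

theorem thompsonSubgroupAOf_eq (hD : D ≤ S) : thompsonSubgroupAOf D = thompJ D := by
  haveI := finite_sub hD
  rw [thompsonSubgroupAOf, thompsonSubgroupA]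
  refine le_antisymm (Subgroup.map_le_iff_le_comap.2 (sSup_le fun A hA => Subgroup.map_le_iff_le_comap.1 ?_))
    (iSup₂_le fun A hA => ?_)
  · refine le_iSup₂_of_le (A.map D.subtype) ⟨Subgroup.map_subtype_le A, ?_, fun B hB hBc => ?_⟩ le_rfl
    · rintro _ ⟨x, hx, rfl⟩ _ ⟨y, hy, rfl⟩
      have := hA.1
      exact congrArg Subtype.val (setLike_mul_comm (s := A) hx hy)
    · rw [Subgroup.card_map_of_injective D.subtype_injective]
      refine le_trans (le_of_eq (Nat.card_congr (Subgroup.subgroupOfEquivOfLe hB).toEquiv).symm) (hA.2 _ ?_)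
      exact ⟨⟨fun x y => Subtype.ext (Subtype.ext (hBc _ x.2 _ y.2))⟩⟩
  · rw [← Subgroup.map_subgroupOf_eq_of_le hA.1]
    refine Subgroup.map_mono (le_sSup ⟨⟨⟨fun x y => Subtype.ext (Subtype.ext (hA.2.1 _ x.2 _ y.2))⟩⟩,
      fun B hB => ?_⟩)
    rw [Nat.card_congr (Subgroup.subgroupOfEquivOfLe hA.1).toEquiv,
      ← Subgroup.card_map_of_injective D.subtype_injective (K := B)]
    refine hA.2.2 _ (Subgroup.map_subtype_le B) ?_
    rintro _ ⟨x, hx, rfl⟩ _ ⟨y, hy, rfl⟩
    exact congrArg Subtype.val (setLike_mul_comm (s := B) hx hy)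

theorem dAb_le (hD : D ≤ S) (hRD : R ≤ D) : dAb R ≤ dAb D := by
  obtain ⟨A, hA⟩ := maxAbelIn_nonempty (hRD.trans hD)
  obtain ⟨B, hB⟩ := maxAbelIn_nonempty hD
  rw [dAb_eq hA, dAb_eq hB]
  exact hB.2.2 A (hA.1.trans hRD) hA.2.1

theorem mem_maxAbelIn_of_le (hD : D ≤ S) (hRD : R ≤ D) (hd : dAb R = dAb D) {A : Subgroup Ω}
    (hA : A ∈ maxAbelIn R) : A ∈ maxAbelIn D := by
  refine ⟨hA.1.trans hRD, hA.2.1, fun B hB hBc => ?_⟩
  rw [← dAb_eq hA, hd]
  obtain ⟨B₀, hB₀⟩ := maxAbelIn_nonempty hD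
  rw [dAb_eq hB₀]
  exact hB₀.2.2 B hB hBc

theorem thompJ_mono (hD : D ≤ S) (hRD : R ≤ D) (hd : dAb R = dAb D) : thompJ R ≤ thompJ D :=
  iSup₂_le fun _ hA => le_thompJ (mem_maxAbelIn_of_le hD hRD hd hA)

theorem dAb_eq_of_le (hD : D ≤ S) (hRD : R ≤ D) (h : thompJ D ≤ R) : dAb R = dAb D := by
  obtain ⟨A, hA⟩ := maxAbelIn_nonempty hD
  have hAR : A ∈ maxAbelIn R :=
    ⟨(le_thompJ hA).trans h, hA.2.1, fun B hB hBc => hA.2.2 B (hB.trans hRD) hBc⟩
  rw [dAb_eq hA, dAb_eq hAR]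

theorem thompJ_eq_of_le (hD : D ≤ S) (hRD : R ≤ D) (h : thompJ D ≤ R) : thompJ R = thompJ D :=
  le_antisymm (thompJ_mono hD hRD (dAb_eq_of_le hD hRD h)) (iSup₂_le fun _ hA =>
    le_thompJ ⟨(le_thompJ hA).trans h, hA.2.1, fun B hB hBc => hA.2.2 B (hB.trans hRD) hBc⟩)

theorem jKey_mono (hD : D ≤ S) (hRD : R ≤ D) : jKey S R ≤ jKey S D := by
  haveI := finite_sub hD
  have h1 : Nat.card (thompJ R) ≤ Nat.card S :=
    Subgroup.card_le_of_le ((thompJ_le R).trans (hRD.trans hD))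
  rcases (dAb_le hD hRD).lt_or_eq with h | h
  · unfold jKey
    calc dAb R * (Nat.card S + 1) + Nat.card (thompJ R) ≤ (dAb R + 1) * (Nat.card S + 1) := by
          rw [Nat.succ_mul]; omega
      _ ≤ dAb D * (Nat.card S + 1) := Nat.mul_le_mul_right _ h
      _ ≤ _ := Nat.le_add_right _ _
  · haveI := finite_sub ((thompJ_le D).trans hD)
    unfold jKey
    rw [h]
    exact Nat.add_le_add_left (Subgroup.card_le_of_le (thompJ_mono hD hRD h)) _

theorem eq_of_jKey_eq (hD : D ≤ S) (hRD : R ≤ D) (h : jKey S D = jKey S R) :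
    dAb R = dAb D ∧ thompJ R = thompJ D := by
  have h1 : Nat.card (thompJ R) ≤ Nat.card S := Subgroup.card_le_of_le ((thompJ_le R).trans (hRD.trans hD))
  have hd : dAb R = dAb D := by
    by_contra hne
    have h2 : (dAb R + 1) * (Nat.card S + 1) ≤ dAb D * (Nat.card S + 1) :=
      Nat.mul_le_mul_right _ (lt_of_le_of_ne (dAb_le hD hRD) hne)
    unfold jKey at h
    rw [Nat.succ_mul] at h2
    omega
  haveI := finite_sub ((thompJ_le D).trans hD)
  refine ⟨hd, Subgroup.eq_of_le_of_card_ge (thompJ_mono hD hRD hd) ?_⟩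
  unfold jKey at h
  rw [hd] at h
  omega

theorem jKey_le (hD : D ≤ S) : jKey S D ≤ Nat.card S * (Nat.card S + 1) + Nat.card S := by
  haveI := finite_sub hD
  obtain ⟨A, hA⟩ := maxAbelIn_nonempty hD
  unfold jKey
  rw [dAb_eq hA]
  exact Nat.add_le_add (Nat.mul_le_mul_right _ (Subgroup.card_le_of_le (hA.1.trans hD)))
    (Subgroup.card_le_of_le ((thompJ_le D).trans hD))

theorem map_maxAbel {F : FusionSystem S} {φ : D →* Ω} (hφ : φ ∈ F.Hom D) {A : Subgroup Ω}
    (hA : A ∈ maxAbelIn D) :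
    (A.subgroupOf D).map φ ∈ maxAbelIn φ.range ∧ Nat.card ((A.subgroupOf D).map φ) = Nat.card A := by
  have hcard : Nat.card ((A.subgroupOf D).map φ) = Nat.card A := by
    rw [Subgroup.card_map_of_injective (F.injective_of_mem hφ),
      Nat.card_congr (Subgroup.subgroupOfEquivOfLe hA.1).toEquiv]
  refine ⟨⟨by rintro _ ⟨x, -, rfl⟩; exact ⟨x, rfl⟩, ?_, fun B hB hBc => ?_⟩, hcard⟩
  · rintro _ ⟨x, hx, rfl⟩ _ ⟨y, hy, rfl⟩
    rw [← map_mul, ← map_mul]
    exact congrArg φ (Subtype.ext (hA.2.1 _ hx _ hy))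
  · rw [hcard]
    have h1 : Nat.card B = Nat.card (B.comap φ) := by
      rw [← Subgroup.card_map_of_injective (F.injective_of_mem hφ) (K := B.comap φ),
        Subgroup.map_comap_eq_self hB]
    rw [h1, ← Subgroup.card_map_of_injective D.subtype_injective (K := B.comap φ)]
    refine hA.2.2 _ (Subgroup.map_subtype_le _) ?_
    rintro _ ⟨x, hx, rfl⟩ _ ⟨y, hy, rfl⟩
    exact congrArg Subtype.val (F.injective_of_mem hφ
      ((map_mul φ x y).trans ((hBc _ hx _ hy).trans (map_mul φ y x).symm)))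

theorem map_thompJ {F : FusionSystem S} {φ : D →* Ω} (hφ : φ ∈ F.Hom D) :
    ((thompJ D).subgroupOf D).map φ = thompJ φ.range ∧ dAb φ.range = dAb D := by
  obtain ⟨θ, hθ, hθr, hl, hr⟩ := exists_inv hφ (rfl : φ.range = φ.range)
  have hD := src_le hφ
  obtain ⟨A₀, hA₀⟩ := maxAbelIn_nonempty hD
  refine ⟨le_antisymm ?_ (iSup₂_le fun B hB => ?_), ?_⟩
  · rw [Subgroup.map_le_iff_le_comap]
    intro x hx
    have h : thompJ D ≤ ((thompJ φ.range).comap φ).map D.subtype := iSup₂_le fun A hA a ha =>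
      ⟨⟨a, hA.1 ha⟩, le_thompJ (map_maxAbel hφ hA).1 ⟨⟨a, hA.1 ha⟩, ha, rfl⟩, rfl⟩
    obtain ⟨y, hy, hyx⟩ := h hx
    rwa [Subtype.ext hyx] at hy
  · intro b hb
    have h1 := (map_maxAbel hθ hB).1
    rw [hθr] at h1
    have hbθ : θ ⟨b, hB.1 hb⟩ ∈ D := hθr.le ⟨_, rfl⟩
    exact ⟨⟨θ ⟨b, hB.1 hb⟩, hbθ⟩, le_thompJ h1 ⟨⟨b, hB.1 hb⟩, hb, rfl⟩, hr _ hbθ⟩
  · obtain ⟨h1, h2⟩ := map_maxAbel hφ hA₀
    rw [dAb_eq h1, dAb_eq hA₀, h2]

theorem jKey_range {F : FusionSystem S} {φ : D →* Ω} (hφ : φ ∈ F.Hom D) : jKey S φ.range = jKey S D := by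
  obtain ⟨h1, h2⟩ := map_thompJ hφ
  unfold jKey
  rw [h2, ← h1, Subgroup.card_map_of_injective (F.injective_of_mem hφ),
    Nat.card_congr (Subgroup.subgroupOfEquivOfLe (thompJ_le D)).toEquiv]

theorem conj_mem_thompJ (hD : D ≤ S) {g : Ω} (hg : g ∈ S) (hgD : g ∈ Subgroup.normalizer (D : Set Ω)) {x : Ω}
    (hx : x ∈ thompJ D) : g * x * g⁻¹ ∈ thompJ D := by
  let F := innerFusionSystem S
  have hφ := F.conj_mem hD hg
  obtain ⟨h1, -⟩ := map_thompJ hφ
  have hr : (conjHom D g).range = D := by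
    haveI := finite_sub hD
    exact range_eq_of_mem hφ (fun y => conj_mem_of_normalizer hgD y.2) le_rfl
  rw [hr] at h1
  exact h1.le ⟨⟨x, thompJ_le D hx⟩, hx, rfl⟩

end Finite

/-! ### Quadratic action -/

theorem exists_quadratic {p : ℕ} [Fact p.Prime] {T Q : Subgroup Ω} [Finite T] (hT : IsPGroup p T) (hQT : Q ≤ T)
    (hQn : T ≤ Subgroup.normalizer (Q : Set Ω)) (hJ : ¬ thompJ T ≤ Q) :
    ∃ a ∈ T, a ∉ Q ∧ ∀ v ∈ powerClosure p 1 (Q ⊓ Subgroup.centralizer (Q : Set Ω)), a * v * a⁻¹ = v := by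
  set V := Q ⊓ Subgroup.centralizer (Q : Set Ω) with hV
  have hVc : ∀ x ∈ V, ∀ y ∈ V, x * y = y * x := fun x hx y hy =>
    (Subgroup.mem_centralizer_iff.1 hy.2 x hx.1)
  have hVn : ∀ t ∈ T, ∀ v ∈ V, t * v * t⁻¹ ∈ V := fun t ht v hv => by
    refine ⟨conj_mem_of_normalizer (hQn ht) hv.1, Subgroup.mem_centralizer_iff.2 fun q hq => ?_⟩
    have h1 := Subgroup.mem_centralizer_iff.1 hv.2 _ (conj_inv_mem_of_normalizer (hQn ht) hq)
    calc q * (t * v * t⁻¹) = t * (t⁻¹ * q * t * v) * t⁻¹ := by group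
      _ = t * v * t⁻¹ * q := by rw [h1]; group
  have hVT : V ≤ T := inf_le_left.trans hQT
  haveI := finite_sub (S := T) hVT
  -- a member outside `Q` with the largest intersection with `V`
  obtain ⟨A, ⟨hA, hAQ⟩, hmax⟩ : ∃ A, (A ∈ maxAbelIn T ∧ ¬ A ≤ Q) ∧
      ∀ B, B ∈ maxAbelIn T → ¬ B ≤ Q → Nat.card (B ⊓ V : Subgroup Ω) ≤ Nat.card (A ⊓ V : Subgroup Ω) := by
    have hfin : {B : Subgroup Ω | B ∈ maxAbelIn T ∧ ¬ B ≤ Q}.Finite :=
      ((Set.finite_range fun K : Subgroup T => K.map T.subtype).subset fun B hB =>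
        ⟨B.subgroupOf T, Subgroup.map_subgroupOf_eq_of_le hB.1.1⟩)
    obtain ⟨A, hA, hmax⟩ := Set.exists_max_image _ (fun B : Subgroup Ω => Nat.card (B ⊓ V : Subgroup Ω)) hfin
      (by
        by_contra hne
        refine hJ (iSup₂_le fun B hB => ?_)
        by_contra hBQ
        exact hne ⟨B, hB, hBQ⟩)
    exact ⟨A, hA, fun B h1 h2 => hmax B ⟨h1, h2⟩⟩
  haveI := finite_sub (S := T) hA.1
  -- `V` moves `A` inside itself
  have key : ∀ v ∈ V, ∀ a ∈ A, a * v * a⁻¹ * v⁻¹ ∈ A := by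
    intro v hv
    let f : Ω → Ω := fun a => a * v * a⁻¹ * v⁻¹
    have hfV : ∀ a ∈ A, f a ∈ V := fun a ha => mul_mem (hVn a (hA.1 ha) v hv) (Subgroup.inv_mem _ hv)
    set M := Subgroup.closure (f '' A) with hM
    have hMV : M ≤ V := (Subgroup.closure_le _).2 (by rintro _ ⟨a, ha, rfl⟩; exact hfV a ha)
    set C := A ⊓ Subgroup.centralizer (M : Set Ω) with hCdef
    set A' := M ⊔ C with hA'
    have hA'T : A' ≤ T := sup_le (hMV.trans hVT) (inf_le_left.trans hA.1)
    have hA'c : ∀ x ∈ A', ∀ y ∈ A', x * y = y * x := by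
      have hcomm : ∀ s ∈ (M : Set Ω) ∪ C, ∀ t ∈ (M : Set Ω) ∪ C, s * t = t * s := by
        rintro s (hs | hs) t (ht | ht)
        · exact hVc _ (hMV hs) _ (hMV ht)
        · exact Subgroup.mem_centralizer_iff.1 ht.2 s hs
        · exact (Subgroup.mem_centralizer_iff.1 hs.2 t ht).symm
        · exact hA.2.1 _ hs.1 _ ht.1
      have h1 : A' = Subgroup.closure ((M : Set Ω) ∪ C) := by
        rw [Subgroup.closure_union, Subgroup.closure_eq, Subgroup.closure_eq]
      rw [h1]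
      haveI := Subgroup.isMulCommutative_closure hcomm
      exact fun x hx y hy => setLike_mul_comm hx hy
    haveI := finite_sub (S := T) hA'T
    -- the count
    have hcard : Nat.card A ≤ Nat.card A' := by
      let q : A → Set Ω := fun a => (fun m => f a * m) '' ((M ⊓ A : Subgroup Ω) : Set Ω)
      have hrep : ∀ a : A, ∃ b : A, q b = q a := fun a => ⟨a, rfl⟩
      let r : A → A := fun a => Function.invFun q (q a)
      have hr : ∀ a, q (r a) = q a := fun a => Function.invFun_eq (hrep a)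
      have hrq : ∀ a b, q a = q b → r a = r b := fun a b h => congrArg (Function.invFun q) h
      have hq : ∀ a b : A, q a = q b ↔ (f a)⁻¹ * f b ∈ M ⊓ A := by
        intro a b
        constructor
        · intro h
          obtain ⟨m, hm, e⟩ := h.ge ⟨1, one_mem _, rfl⟩
          replace e : f a * m = f b := by simpa using e
          rwa [← e, inv_mul_cancel_left]
        · intro h
          refine Set.ext fun x => ⟨?_, ?_⟩
          · rintro ⟨m, hm, rfl⟩
            exact ⟨((f a)⁻¹ * f b)⁻¹ * m, mul_mem (Subgroup.inv_mem _ h) hm, by group⟩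
          · rintro ⟨m, hm, rfl⟩
            exact ⟨(f a)⁻¹ * f b * m, mul_mem h hm, by group⟩
      -- a difference in the class lies in `C`
      have hdiff : ∀ a b : A, q a = q b → (a : Ω)⁻¹ * b ∈ C := by
        intro a b h
        refine ⟨mul_mem (Subgroup.inv_mem _ a.2) b.2, ?_⟩
        have hm := (hq a b).1 h
        set c : Ω := (a : Ω)⁻¹ * b
        have hcA : c ∈ A := mul_mem (Subgroup.inv_mem _ a.2) b.2
        have hfc : f c ∈ A := by
          have e : (f a)⁻¹ * f b = v * (a : Ω) * v⁻¹ * (a : Ω)⁻¹ * ((b : Ω) * v * (b : Ω)⁻¹ * v⁻¹) := by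
            simp only [f]; group
          have e2 : f b * (f a)⁻¹ = (a : Ω) * f c * (a : Ω)⁻¹ := by simp only [f, c]; group
          have e3 : f b * (f a)⁻¹ = (f a)⁻¹ * f b :=
            hVc _ (hfV b b.2) _ (Subgroup.inv_mem _ (hfV a a.2))
          have h2 : (a : Ω) * f c * (a : Ω)⁻¹ ∈ A := by rw [← e2, e3]; exact hm.2
          simpa [mul_assoc] using mul_mem (mul_mem (Subgroup.inv_mem _ a.2) h2) a.2
        have : M ≤ Subgroup.centralizer {c} := by
          refine (Subgroup.closure_le _).2 ?_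
          rintro _ ⟨x, hx, rfl⟩
          refine Subgroup.mem_centralizer_singleton_iff.2 ?_
          have hcx : c * x = x * c := hA.2.1 c hcA x hx
          have hxfc : x * f c = f c * x := hA.2.1 x hx _ hfc
          have e : c * f x * c⁻¹ = x * (f c * v) * x⁻¹ * (f c * v)⁻¹ := by
            calc c * f x * c⁻¹ = (c * x) * v * (c * x)⁻¹ * (c * v * c⁻¹)⁻¹ := by simp only [f]; group
              _ = x * (c * v * c⁻¹) * x⁻¹ * (c * v * c⁻¹)⁻¹ := by rw [hcx]; group
              _ = _ := by simp only [f]; group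
          have e' : c * f x * c⁻¹ = f x := by
            rw [e]
            calc x * (f c * v) * x⁻¹ * (f c * v)⁻¹ = (x * f c) * v * x⁻¹ * v⁻¹ * (f c)⁻¹ := by group
              _ = f c * f x * (f c)⁻¹ := by rw [hxfc]; simp only [f]; group
              _ = f x := by rw [hVc _ (hfV c hcA) _ (hfV x hx), mul_inv_cancel_right]
          exact (mul_inv_eq_iff_eq_mul.1 e').symm
        exact Subgroup.mem_centralizer_iff.2 fun m hm => Subgroup.mem_centralizer_singleton_iff.1 (this hm)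
      refine Nat.card_le_card_of_injective (fun a : A =>
        (⟨f (r a) * ((r a : Ω)⁻¹ * a), mul_mem (Subgroup.mem_sup_left (Subgroup.subset_closure ⟨r a, (r a).2, rfl⟩))
          (Subgroup.mem_sup_right (hdiff _ _ (hr a)))⟩ : A')) ?_
      intro a b h
      have h' : f (r a) * ((r a : Ω)⁻¹ * a) = f (r b) * ((r b : Ω)⁻¹ * b) := congrArg Subtype.val h
      have h1 : (f (r a))⁻¹ * f (r b) = ((r a : Ω)⁻¹ * a) * ((r b : Ω)⁻¹ * b)⁻¹ := by
        calc (f (r a))⁻¹ * f (r b) = (f (r a))⁻¹ * (f (r b) * ((r b : Ω)⁻¹ * b)) * ((r b : Ω)⁻¹ * b)⁻¹ := by group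
          _ = _ := by rw [← h']; group
      have hMA : (f (r a))⁻¹ * f (r b) ∈ M ⊓ A := by
        refine ⟨mul_mem (Subgroup.inv_mem _ (Subgroup.subset_closure ⟨_, (r a).2, rfl⟩))
          (Subgroup.subset_closure ⟨_, (r b).2, rfl⟩), ?_⟩
        rw [h1]
        exact mul_mem (mul_mem (Subgroup.inv_mem _ (r a).2) a.2) (Subgroup.inv_mem _ (mul_mem (Subgroup.inv_mem _ (r b).2) b.2))
      have h2 : r a = r b := by
        have h3 : q a = q b := (hr a).symm.trans (((hq _ _).2 hMA).trans (hr b))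
        exact hrq a b h3
      rw [h2] at h'
      exact Subtype.ext (mul_left_cancel (mul_left_cancel h'))
    have hA'max : A' ∈ maxAbelIn T := ⟨hA'T, hA'c, fun B hB hBc => (hA.2.2 B hB hBc).trans hcard⟩
    have hAVC : A ⊓ V ≤ C := fun x hx =>
      ⟨hx.1, Subgroup.mem_centralizer_iff.2 fun m hm => hVc m (hMV hm) x hx.2⟩
    suffices hMA : M ≤ A from fun a ha => hMA (Subgroup.subset_closure ⟨a, ha, rfl⟩)
    by_cases hA'Q : A' ≤ Q
    · -- `A'` contains `V`, and then `A` centralizes `v`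
      have hVA' : V ≤ A' := fun x hx => by
        have hc := closure_singleton_sup_comm hA'c (x := x) fun a ha =>
          Subgroup.mem_centralizer_iff.1 hx.2 a (hA'Q ha)
        have hle : A' ⊔ Subgroup.zpowers x ≤ T := sup_le hA'T (Subgroup.zpowers_le.2 (hVT hx))
        haveI := finite_sub (S := T) hle
        rw [Subgroup.eq_of_le_of_card_ge le_sup_left (hA'max.2.2 _ hle hc)]
        exact Subgroup.mem_sup_right (Subgroup.mem_zpowers x)
      have hdec : ∀ x ∈ V, ∃ m ∈ M, ∃ c ∈ A ⊓ V, x = m * c := by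
        intro x hx
        obtain ⟨m, hm, c, hc, rfl⟩ := StronglyClosed.exists_mul_of_mem_sup (P := M) (T := C)
          (fun u hu t ht => by rw [Subgroup.mem_centralizer_iff.1 ht.2 u hu, mul_inv_cancel_right]; exact ht) (hVA' hx)
        refine ⟨m, hm, c, ⟨hc.1, ?_⟩, rfl⟩
        simpa using mul_mem (Subgroup.inv_mem _ (hMV hm)) hx
      have hstep : M ≤ ⁅M, T⁆ := by
        refine (Subgroup.closure_le _).2 ?_
        rintro _ ⟨a, ha, rfl⟩
        obtain ⟨m, hm, c, hc, rfl⟩ := hdec v hv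
        have hac : a * c = c * a := hA.2.1 a ha c hc.1
        have hci : c * a⁻¹ * c⁻¹ = a⁻¹ :=
          mul_inv_eq_iff_eq_mul.2 (Commute.inv_right (hac.symm : Commute c a))
        have e : f a = ⁅a, m⁆ := by
          calc f a = a * m * (c * a⁻¹ * c⁻¹) * m⁻¹ := by simp only [f]; group
            _ = ⁅a, m⁆ := by rw [hci, commutatorElement_def]
        rw [SetLike.mem_coe, e, Subgroup.commutator_comm]
        exact Subgroup.commutator_mem_commutator (hA.1 ha) hm
      have hbot : M = ⊥ := by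
        haveI := hT.isNilpotent
        obtain ⟨n, hn⟩ := (Subgroup.isNilpotent_iff_lowerCentralSeries T).1 inferInstance
        have hall : ∀ i, M ≤ T.lowerCentralSeries i := by
          intro i
          induction i with
          | zero => exact hMV.trans hVT
          | succ i ih => exact hstep.trans (Subgroup.commutator_mono ih le_rfl)
        exact le_bot_iff.1 (hn ▸ hall n)
      rw [hbot]; exact bot_le
    · haveI : Finite (A' ⊓ V : Subgroup Ω) := finite_sub (S := T) (inf_le_left.trans hA'T)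
      have h1 : A ⊓ V = A' ⊓ V := Subgroup.eq_of_le_of_card_ge
        (le_inf (hAVC.trans le_sup_right) inf_le_right) (hmax A' hA'max hA'Q)
      exact fun m hm => ((h1.ge : A' ⊓ V ≤ A ⊓ V) ⟨Subgroup.mem_sup_left hm, hMV hm⟩).1
  -- an element of order `p` modulo `Q`
  obtain ⟨a, ha, haQ, hap⟩ : ∃ a ∈ A, a ∉ Q ∧ a ^ p ∈ Q := by
    obtain ⟨a, ha, haQ⟩ := SetLike.not_le_iff_exists.1 hAQ
    obtain ⟨k, hk⟩ := hT ⟨a, hA.1 ha⟩
    have hk' : a ^ p ^ k ∈ Q := by
      rw [show a ^ p ^ k = 1 from congrArg Subtype.val hk]; exact one_mem Q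
    clear hk
    induction k generalizing a with
    | zero => exact absurd (by simpa using hk') haQ
    | succ k ih =>
      by_cases h : a ^ p ∈ Q
      · exact ⟨a, ha, haQ, h⟩
      · exact ih (a ^ p) (pow_mem ha p) h (by rwa [← pow_mul, ← pow_succ'])
  refine ⟨a, hA.1 ha, haQ, fun w hw => ?_⟩
  refine Subgroup.closure_induction (p := fun w _ => a * w * a⁻¹ = w) ?_ (by group) ?_ ?_ hw
  · rintro _ ⟨v, hv, rfl⟩
    rw [pow_one]
    set d := a * v * a⁻¹ * v⁻¹ with hd
    have hda : a * d * a⁻¹ = d := by rw [hA.2.1 a ha d (key v hv a ha), mul_inv_cancel_right]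
    have hdV : d ∈ V := mul_mem (hVn a (hA.1 ha) v hv) (Subgroup.inv_mem _ hv)
    have hpow : ∀ j : ℕ, a ^ j * v * (a ^ j)⁻¹ = d ^ j * v := by
      intro j
      induction j with
      | zero => simp
      | succ j ih =>
        have hdj : a * d ^ j * a⁻¹ = d ^ j := by rw [← conj_pow, hda]
        calc a ^ (j + 1) * v * (a ^ (j + 1))⁻¹ = a * (a ^ j * v * (a ^ j)⁻¹) * a⁻¹ := by rw [pow_succ']; group
          _ = (a * d ^ j * a⁻¹) * (a * v * a⁻¹ * v⁻¹) * v := by rw [ih]; group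
          _ = d ^ (j + 1) * v := by rw [hdj, ← hd, pow_succ]
    have h1 := hpow p
    have hdp : d ^ p = 1 := by
      rw [Subgroup.mem_centralizer_iff.1 hv.2 _ hap, mul_inv_cancel_right] at h1
      exact mul_eq_right.1 h1.symm
    calc a * v ^ p * a⁻¹ = (d * v) ^ p := by rw [← conj_pow, hd]; group
      _ = v ^ p := by rw [Commute.mul_pow (hVc d hdV v hv), hdp, one_mul]
  · intro x y _ _ hx hy
    calc a * (x * y) * a⁻¹ = (a * x * a⁻¹) * (a * y * a⁻¹) := by group
      _ = x * y := by rw [hx, hy]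
  · intro x _ hx
    calc a * x⁻¹ * a⁻¹ = (a * x * a⁻¹)⁻¹ := by group
      _ = x⁻¹ := by rw [hx]

end Cfsg.Agent.Lib.FusionP3.TG
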